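import Groth.Agent.Lib.ModelFibre.IdealPull
import Groth.Agent.Lib.RelDiv.Cartier
import Groth.Agent.Lib.CurveFF.DoubleInvol
import Groth.Agent.Lib.CurveFF.IdealInv
import Groth.Agent.Lib.Curves.Degree
import Groth.Agent.Lib.AlgSpDecent.EtaleCount

/-!
The fixed scheme of an involution of a curve is reduced in characteristic different from two.
-/

set_option autoImplicit false
set_option linter.style.haveILetI false
universe u

open CategoryTheory CategoryTheory.Limits AlgebraicGeometry TopologicalSpace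

namespace Groth.Agent.H40.HypFix

attribute [local instance] Curv2.stalkAlgebra

theorem eq_maximalIdeal_of_invol {O : Type u} [CommRing O] [IsDomain O] [IsDiscreteValuationRing O]
    (τ : O →+* O) (hτ : ∀ a, τ (τ a) = a) (h2 : IsUnit (2 : O)) (hne : ∃ a, τ a ≠ a)
    (J : Ideal O) (hJ : ∀ a, a - τ a ∈ J) (hJle : J ≤ IsLocalRing.maximalIdeal O) :
    J = IsLocalRing.maximalIdeal O := by
  obtain ⟨t, ht⟩ := IsDiscreteValuationRing.exists_irreducible O
  have hm : IsLocalRing.maximalIdeal O = Ideal.span {t} := ht.maximalIdeal_eq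
  set u := t - τ t with hu
  obtain ⟨c, hc⟩ : t ∣ u := Ideal.mem_span_singleton.1 (hm ▸ hJle (hJ t))
  by_cases hcu : IsUnit c
  · refine le_antisymm hJle ?_
    rw [hm, Ideal.span_singleton_le_iff_mem]
    obtain ⟨c', rfl⟩ := hcu
    have : t = u * ↑c'⁻¹ := by rw [hc, mul_assoc, Units.mul_inv, mul_one]
    rw [this]; exact J.mul_mem_right _ (hJ t)
  exfalso
  have hcm : c ∈ IsLocalRing.maximalIdeal O := hcu
  have h2c : IsUnit ((2 : O) - c) := by
    by_contra h
    have := (IsLocalRing.maximalIdeal O).add_mem (show (2 : O) - c ∈ _ from h) hcm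
    rw [sub_add_cancel] at this
    exact this h2
  set v := t + τ t with hv
  have hvt : v = t * ((2 : O) - c) := by rw [mul_sub, ← hc, hu, hv]; ring
  obtain ⟨e, he⟩ := h2c
  have hvirr : Irreducible v := by
    rw [hvt, ← he]
    exact (irreducible_mul_isUnit e.isUnit).2 ht
  have hvfix : τ v = v := by rw [hv, map_add, hτ]; ring
  obtain ⟨a, ha⟩ := hne
  set d := a - τ a with hd
  have hd0 : d ≠ 0 := sub_ne_zero.2 (Ne.symm ha)
  obtain ⟨n, w, hw⟩ := IsDiscreteValuationRing.eq_unit_mul_pow_irreducible hd0 hvirr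
  have hodd : τ d = - d := by rw [hd, map_sub, hτ]; ring
  rw [hw, map_mul, map_pow, hvfix, ← neg_mul] at hodd
  have hτw := mul_right_cancel₀ (pow_ne_zero n hvirr.ne_zero) hodd
  have h2w : (2 : O) * w = (w : O) - τ w := by rw [hτw]; ring
  have : (2 : O) * (w : O) ∈ IsLocalRing.maximalIdeal O := h2w ▸ hJle (hJ (w : O))
  exact this (h2.mul w.isUnit)

theorem germ_congr {Z X : Scheme.{u}} {f g : Z ⟶ X} (e : f = g) (U : X.Opens) (s : Γ(X, U))
    (z : Z) (hf : z ∈ f ⁻¹ᵁ U) (hg : z ∈ g ⁻¹ᵁ U) :
    Z.presheaf.germ (f ⁻¹ᵁ U) z hf (f.app U s) = Z.presheaf.germ (g ⁻¹ᵁ U) z hg (g.app U s) := by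
  subst e; rfl

variable {k : Type u} [Field k] [IsAlgClosed k] {C : Scheme.{u}} [C.Over (Spec (CommRingCat.of k))]
  [IsProper (C ↘ Spec (CommRingCat.of k))] [Smooth (C ↘ Spec (CommRingCat.of k))] [ConnectedSpace ↥C]
  (hdim : topologicalKrullDim ↥C = 1)

local notation "pC" => (C ↘ Spec (CommRingCat.of k))

include hdim

/-- An equalizing closed subscheme of a nontrivial involution has residue fields as local rings. -/
theorem isReduced_subscheme {σ : C ⟶ C} (hσσ : σ ≫ σ = 𝟙 C) (hσp : σ ≫ pC = pC)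
    (hne : σ ≠ 𝟙 C) (h2 : (2 : k) ≠ 0) (Z : C.IdealSheafData) (hι : Z.subschemeι ≫ σ = Z.subschemeι)
    (hcl : ∀ x ∈ (Z.support : Set C), IsClosed ({x} : Set C)) : IsReduced Z.subscheme := by
  haveI := Groth.Agent.Lib.CurveBundle.SmoothField.isIntegral k hdim.le
  haveI : C.IsSeparated :=
    ⟨by rw [← Limits.terminal.comp_from (C ↘ Spec (CommRingCat.of k))]; infer_instance⟩
  have hX := Groth.Agent.Lib.CurveFF.curveHyp_of_smooth (k := k) hdim
  have hinv := Groth.Agent.Lib.CurveFF.AutoMap.invol σ hσp hσσ hne h2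
  set φ := Groth.Agent.Lib.CurveFF.AutoMap.autAlg σ hσp hσσ with hφ
  suffices ∀ z : Z.subscheme, _root_.IsReduced (Z.subscheme.presheaf.stalk z) from
    @isReduced_of_isReduced_stalk _ this
  intro z
  set x := Z.subschemeι z with hx
  have hxs : σ x = x := by
    rw [hx, ← Scheme.Hom.comp_apply, hι]
  have hxc : IsClosed ({x} : Set C) := hcl x (Z.range_subschemeι ▸ ⟨z, rfl⟩)
  haveI := hX.dvr x hxc
  let T : C.presheaf.stalk x →+* C.presheaf.stalk x :=
    (σ.stalkMap x).hom.comp (C.presheaf.stalkSpecializes (specializes_of_eq hxs)).hom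
  have hTK : ∀ a, algebraMap _ C.functionField (T a) = φ (algebraMap _ C.functionField a) := by
    intro a
    obtain ⟨U, hU, s, rfl⟩ := C.presheaf.exists_germ_eq a
    haveI : Nonempty U := ⟨⟨x, hU⟩⟩
    rw [hφ, Groth.Agent.Lib.CurveFF.AutoMap.autAlg_apply]
    change algebraMap _ _ (σ.stalkMap x (C.presheaf.stalkSpecializes (specializes_of_eq hxs)
      (C.presheaf.germ U x hU s))) = _
    rw [← Groth.Agent.Lib.CurveFF.FieldExt.kMap_algebraMap σ
      (Groth.Agent.Lib.CurveFF.AutoMap.genericPoint_fixed hσσ) x,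
      TopCat.Presheaf.germ_stalkSpecializes_apply]
    congr 1
    exact (Scheme.algebraMap_germ_eq_germToFunctionField (X := C) _ s).trans
      (Scheme.algebraMap_germ_eq_germToFunctionField (X := C) _ s).symm
  have hinj := IsFractionRing.injective (C.presheaf.stalk x) C.functionField
  have hTT : ∀ a, T (T a) = a := fun a => hinj (by rw [hTK, hTK, hinv.invol])
  have hne' : ∃ a, T a ≠ a := by
    by_contra hc
    push Not at hc
    obtain ⟨y, hy⟩ := hinv.ne_id
    obtain ⟨a, b, -, rfl⟩ := IsFractionRing.div_surjective (A := C.presheaf.stalk x) y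
    refine hy ?_
    rw [map_div₀, ← hTK, ← hTK, hc, hc]
  have h2' : IsUnit (2 : C.presheaf.stalk x) := by
    rw [← map_ofNat (algebraMap k (C.presheaf.stalk x)) 2]
    exact (IsUnit.mk0 _ h2).map _
  set π := (Z.subschemeι.stalkMap z).hom with hπ
  have hsurj : Function.Surjective π := Z.subschemeι.stalkMap_surjective z
  have hJ : ∀ a, a - T a ∈ RingHom.ker π := fun a => by
    rw [RingHom.mem_ker, map_sub, sub_eq_zero]
    obtain ⟨U, hU, s, rfl⟩ := C.presheaf.exists_germ_eq a
    change Z.subschemeι.stalkMap z (C.presheaf.germ U x hU s) = Z.subschemeι.stalkMap z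
      (σ.stalkMap x (C.presheaf.stalkSpecializes (specializes_of_eq hxs) (C.presheaf.germ U x hU s)))
    erw [TopCat.Presheaf.germ_stalkSpecializes_apply, Scheme.Hom.germ_stalkMap_apply,
      Scheme.Hom.germ_stalkMap_apply, Scheme.Hom.germ_stalkMap_apply]
    exact germ_congr hι.symm U s z _ _
  have hker : RingHom.ker π = IsLocalRing.maximalIdeal (C.presheaf.stalk x) :=
    eq_maximalIdeal_of_invol T hTT h2' hne' _ hJ
      (IsLocalRing.le_maximalIdeal (RingHom.ker_ne_top π))
  haveI : (RingHom.ker π).IsMaximal := hker ▸ inferInstance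
  have hf : IsField (Z.subscheme.presheaf.stalk z) :=
    (RingHom.quotientKerEquivOfSurjective hsurj).symm.toMulEquiv.isField
      ((Ideal.Quotient.maximal_ideal_iff_isField_quotient _).1 inferInstance)
  haveI := hf.isDomain
  infer_instance

/-- The fixed scheme, as the pullback of the diagonal along the graph, has `2g+2` sections. -/
theorem deg_graph_pullback_diag (h2 : (2 : k) ≠ 0)
    (κ : C ⟶ CohB1.ProjSpace 1 k) (hκ : κ ≫ CohB1.ProjSpace.toSpec 1 k = pC)
    [IsFinite κ] [Flat κ] (hκ2 : ∀ y : ↥(CohB1.ProjSpace 1 k), κ.finrank y = 2)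
    {σ : C ⟶ C} (hσ : σ ≫ κ = κ) (hσσ : σ ≫ σ = 𝟙 C) (hσp : σ ≫ pC = pC) (hne : σ ≠ 𝟙 C)
    (s : C ⟶ pullback pC pC) (hs1 : s ≫ pullback.fst pC pC = 𝟙 C)
    (hs2 : s ≫ pullback.snd pC pC = σ)
    (hD : BlowUp.IsEffCartierIdeal (pullback.diagonal pC).ker) :
    Curv2.deg k C ((Scheme.Modules.pullback s).obj
      (_root_.ClSub.idealMod (pullback.diagonal pC).ker)) 1 = -(2 * (Curv2.genus k C : ℤ) + 2) := by
  haveI := Groth.Agent.Lib.CurveBundle.SmoothField.isIntegral k hdim.le
  set D := (pullback.diagonal pC).ker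
  set Z := D.comap s with hZ
  set ι := Z.subschemeι with hιdef
  have hle : D ≤ (ι ≫ s).ker := by
    rw [← Scheme.IdealSheafData.map_ker, Scheme.IdealSheafData.le_map_iff_comap_le,
      Scheme.IdealSheafData.ker_subschemeι]
  let l := IsClosedImmersion.lift (pullback.diagonal pC) (ι ≫ s) hle
  have hl : l ≫ pullback.diagonal pC = ι ≫ s := IsClosedImmersion.lift_fac _ _ _
  have hι : ι ≫ σ = ι := by
    have e1 : l = ι := by
      have := congrArg (· ≫ pullback.fst pC pC) hl
      simpa only [Category.assoc, pullback.diagonal_fst, hs1, Category.comp_id] using this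
    have := congrArg (· ≫ pullback.snd pC pC) hl
    simp only [Category.assoc, pullback.diagonal_snd, hs2, Category.comp_id] at this
    rw [← this, e1]
  have hη : genericPoint C ∉ (Z.support : Set C) := fun hm => by
    haveI : Surjective ι := ⟨Set.range_eq_univ.1 (by
      rw [hιdef, Z.range_subschemeι]
      exact Set.eq_univ_of_forall fun x =>
        (genericPoint_specializes x).mem_closed Z.support.isClosed hm)⟩
    haveI : IsIso ι := isIso_of_isClosedImmersion_of_surjective _
    exact hne ((cancel_epi ι).1 (by rw [hι, Category.comp_id]))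
  have hcl : ∀ x ∈ (Z.support : Set C), IsClosed ({x} : Set C) := fun x hx =>
    (Groth.Agent.Lib.SmoothCurve.Curve.eq_genericPoint_or_isClosed hdim x).resolve_left fun e => hη (e ▸ hx)
  have hsupp : (Z.support : Set C) = {x | IsClosed ({x} : Set C) ∧ σ x = x} := by
    ext x
    constructor
    · intro hx
      refine ⟨hcl x hx, ?_⟩
      obtain ⟨z, rfl⟩ : x ∈ Set.range ι := by rw [hιdef, Z.range_subschemeι]; exact hx
      rw [← Scheme.Hom.comp_apply, hι]
    · rintro ⟨hxc, hxs⟩
      let p := pointOfClosedPoint pC x hxc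
      have hp : p ≫ σ = p := ext_of_apply_closedPoint_eq pC
        (by rw [Category.assoc, hσp, pointOfClosedPoint_comp]) (pointOfClosedPoint_comp pC x hxc)
        (by rw [Scheme.Hom.comp_apply, pointOfClosedPoint_apply, hxs])
      have hps : p ≫ s = p ≫ pullback.diagonal pC := pullback.hom_ext
        (by simp only [Category.assoc, hs1, pullback.diagonal_fst])
        (by simp only [Category.assoc, hs2, pullback.diagonal_snd, hp, Category.comp_id])
      rw [hZ, Scheme.IdealSheafData.support_comap]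
      change s x ∈ ((pullback.diagonal pC).ker.support : Set _)
      rw [Scheme.Hom.support_ker]
      refine subset_closure ⟨x, ?_⟩
      have := congrArg (fun g => g (IsLocalRing.closedPoint k)) hps
      simp only [Scheme.Hom.comp_apply, p, pointOfClosedPoint_apply] at this
      exact this.symm
  haveI := isReduced_subscheme hdim hσσ hσp hne h2 Z hι hcl
  have hcard : Nat.card Z.subscheme = 2 * Curv2.genus k C + 2 := by
    rw [← Groth.Agent.Lib.CurveFF.DoubleInvol.card_fixed κ hκ
      (Groth.Agent.Lib.CurveFF.curveHyp_of_smooth (k := k) hdim) hκ2 h2 hσ hσσ hne]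
    exact Nat.card_congr ((Equiv.ofInjective ι ι.isClosedEmbedding.injective).trans
      (Equiv.setCongr ((Z.range_subschemeι).trans hsupp)))
  haveI : Finite Z.subscheme := (Nat.card_ne_zero.1 (by rw [hcard]; omega)).2
  haveI : LocallyQuasiFinite (ι ≫ pC) :=
    LocallyQuasiFinite.of_finite_preimage_singleton _ fun _ => Set.toFinite _
  haveI : IsFinite (ι ≫ pC) := IsFinite.of_locallyQuasiFinite _
  haveI : IsAffine Z.subscheme := isAffine_of_isAffineHom (ι ≫ pC)
  letI alg : Algebra k Γ(Z.subscheme, ⊤) :=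
    RingHom.toAlgebra (S := Γ(Z.subscheme, ⊤)) (Coh.toGlobal (ι ≫ pC))
  haveI : Module.Finite k Γ(Z.subscheme, ⊤) := by
    have h1 : (ι ≫ pC).appTop.hom.Finite :=
      (HasAffineProperty.iff_of_isAffine (P := @IsFinite)).1 ‹_› |>.2
    exact h1.comp (RingHom.Finite.of_surjective _
      (ConcreteCategory.bijective_of_isIso (Scheme.ΓSpecIso (CommRingCat.of k)).inv).2)
  have hfr : Module.finrank k Γ(Z.subscheme, ⊤) = Nat.card Z.subscheme := by
    rw [Groth.Agent.Lib.AlgSpDecent.EtaleCount.finrank_eq_card]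
    exact (Nat.card_congr Z.subscheme.isoSpec.hom.homeomorph.toEquiv).symm
  have hJ : PicF.IsInvertible (_root_.ClSub.idealMod Z) :=
    Groth.Agent.Lib.CurveFF.IdealInv.isInvertible (k := k)
      (Groth.Agent.Lib.CurveFF.curveHyp_of_smooth (k := k) hdim) Z hη
  have hdeg := Groth.Agent.Lib.Curves.Degree.deg_idealMod (k := k) hdim.le hJ hη
  have hh0 : Groth.Agent.Lib.Curves.Euler.hdim k C (_root_.ClSub.quotMod Z) 0 =
      Module.finrank k Γ(Z.subscheme, ⊤) := by
    letI := Groth.Agent.Lib.Curves.GlobalSections.secModule k (_root_.ClSub.quotMod Z)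
    refine ((Groth.Agent.Lib.Curves.GlobalSections.h0Linear k _).finrank_eq).trans ?_
    exact LinearEquiv.finrank_eq
      { toFun := fun a => a
        invFun := fun a => a
        map_add' := fun _ _ => rfl
        map_smul' := fun _ _ => rfl
        left_inv := fun _ => rfl
        right_inv := fun _ => rfl }
  obtain ⟨eI⟩ := Groth.Agent.Lib.ModelFibre.IdealPull.nonempty_pullback_idealMod s hD (by
    intro U t ht hDU x hx
    rw [mem_nonZeroDivisors_iff_ne_zero]
    intro h0
    refine hη ?_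
    have hηU : genericPoint C ∈ s ⁻¹ᵁ U.1 := (genericPoint_specializes x).mem_open (s ⁻¹ᵁ U.1).2 hx
    have ht0 : s.app U.1 t = 0 := germ_injective_of_isIntegral C x hx (h0.trans (map_zero _).symm)
    rw [hZ, Scheme.IdealSheafData.support_comap]
    change s (genericPoint C) ∈ D.support
    refine (Scheme.IdealSheafData.mem_support_iff_of_mem (U := U) hηU).2 ?_
    rw [hDU, Scheme.zeroLocus_span, Scheme.zeroLocus_singleton]
    simp only [Set.mem_compl_iff, SetLike.mem_coe]
    intro hb
    have : genericPoint C ∈ s ⁻¹ᵁ (pullback pC pC).basicOpen t := hb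
    rw [Scheme.preimage_basicOpen, ht0, Scheme.basicOpen_zero] at this
    exact this)
  rw [Groth.Agent.Lib.Curves.Euler.deg_eq_of_iso eI 1, hdeg, hh0, hfr, hcard]
  push_cast
  ring

end Groth.Agent.H40.HypFix
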