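import Groth.Agent.Lib.HypSq96.Canon
import Groth.Agent.Lib.HypSq96.Vanish
import Groth.Agent.Lib.Snapper.Finite
import Groth.Agent.Lib.Curves.Positivity
import Groth.Agent.Lib.Curves.Clifford
import Groth.Agent.Lib.CurveFF.IdealInv
import Groth.Agent.Lib.SurfInt.Pencil
import Groth.Agent.Lib.SurfInt.CokerCodim
import Groth.Agent.Lib.IntTheory.Curves
import Groth.Agent.H40.HypFix

/-!
`Δ + Γ ~ p₁^*D + p₂^*D` on the square of a hyperelliptic curve.
-/

noncomputable section
set_option autoImplicit false
set_option linter.style.haveILetI false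
set_option linter.unusedSectionVars false
set_option maxHeartbeats 1000000
universe u

open CategoryTheory CategoryTheory.Limits AlgebraicGeometry TopologicalSpace

namespace Groth.Agent.H40.HypBox

open Groth.Agent.Lib Groth.Agent.Lib.HypSq96.Basic Groth.Agent.Lib.HypSq96.Table
open Groth.Agent.Lib.TensorMod.Basic (comm assoc tensorIso leftUnit rightUnit)
open Groth.Agent.Lib.TensorMod.Invertible (isInvertible_tensorPow isInvertible_tensorMod)
open Groth.Agent.Lib.Curves.LES (isoK exactK₂ mapK mapK_injective_of_mono)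

variable {k : Type u} [Field k] [IsAlgClosed k] {C : Scheme.{u}} [C.Over (Spec (CommRingCat.of k))]
  [IsProper (C ↘ Spec (CommRingCat.of k))] [Smooth (C ↘ Spec (CommRingCat.of k))] [ConnectedSpace ↥C]
  (hdim : topologicalKrullDim ↥C = 1)

local notation "pC" => (C ↘ Spec (CommRingCat.of k))
local notation "SS" => pullback pC pC

include hdim

theorem le_add (s : C ⟶ SS) (hs : s ≫ pullback.fst pC pC = 𝟙 C) {B : (SS).Modules}
    (hB : PicF.IsInvertible B) (hI : PicF.IsInvertible (_root_.ClSub.idealMod s.ker)) :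
    letI := sqOver (k := k) (C := C)
    Module.finrank k (Coh.HH SS B 0) ≤
      Module.finrank k (Coh.HH SS (CohB1.tensorMod B (_root_.ClSub.idealMod s.ker)) 0) +
        Module.finrank k (Coh.HH C ((Scheme.Modules.pullback s).obj B) 0) := by
  letI := sqOver (k := k) (C := C)
  haveI := isProper_sq (k := k) (C := C)
  haveI := isIntegral_C (k := k) hdim
  obtain ⟨eq⟩ := HypSq96.Vanish.nonempty_twist_quot_equiv (k := k) hdim s hs hB 0
  have hS := Snapper.Twist.twistSeq_shortExact hB (Groth.Agent.Lib.ClSub.Quot.idealSeq_shortExact s.ker)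
  haveI := hS.mono_f
  haveI : Module.Finite k (Coh.HH SS B 0) :=
    Snapper.Finite.cohFinite k SS B (Curves.Degree.isCoh_of_isInvertible hB) 0
  haveI : Module.Finite k (Coh.HH SS (CohB1.tensorMod B (Coh.structureModule SS)) 0) :=
    Module.Finite.equiv (isoK k (rightUnit B) 0).symm
  haveI : Module.Finite k (Coh.HH C ((Scheme.Modules.pullback s).obj B) 0) :=
    (Curves.Degree.isGood (k := k) hdim.le (PicLoc.isInvertible_pullback s hB)).fin₀
  haveI : Module.Finite k (Coh.HH SS (CohB1.tensorMod B (_root_.ClSub.quotMod s.ker)) 0) :=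
    Module.Finite.equiv eq.symm
  haveI : Module.Finite k (Coh.HH SS (CohB1.tensorMod B (_root_.ClSub.idealMod s.ker)) 0) :=
    Snapper.Finite.cohFinite k SS _ (Curves.Degree.isCoh_of_isInvertible (isInvertible_tensorMod hB hI)) 0
  rw [← (isoK k (rightUnit B) 0).finrank_eq, ← eq.finrank_eq]
  have key : ∀ {A B D : Type u} [AddCommGroup A] [Module k A] [Module.Finite k A] [AddCommGroup B]
      [Module k B] [Module.Finite k B] [AddCommGroup D] [Module k D] [Module.Finite k D]
      (f : A →ₗ[k] B) (g : B →ₗ[k] D), Function.Exact f g →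
      Module.finrank k B ≤ Module.finrank k A + Module.finrank k D := fun f g h => by
    rw [← LinearMap.finrank_range_add_finrank_ker g, LinearMap.exact_iff.1 h, add_comm]
    exact Nat.add_le_add (LinearMap.finrank_range_le f) (Submodule.finrank_le _)
  exact key _ _ (exactK₂ k hS 0)

/-- A section of a degree zero pullback vanishes everywhere or nowhere on the curve. -/
theorem genLocus_line (f : C ⟶ SS) {M : (SS).Modules} (hM : PicF.IsInvertible M)
    (s : Coh.structureModule SS ⟶ M)
    (hd : Curv2.deg k C ((Scheme.Modules.pullback f).obj M) 1 = 0) {z : C}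
    (hz : f z ∈ CohB1.genLocus M s) (w : C) : f w ∈ CohB1.genLocus M s := by
  haveI := isIntegral_C (k := k) hdim
  haveI := Curves.GlobalSections.isNoetherian_of_proper k C
  have hLC : PicF.IsInvertible ((TensorMod.Pullback.pb f).obj M) := PicLoc.isInvertible_pullback f hM
  let sC : Coh.structureModule C ⟶ (TensorMod.Pullback.pb f).obj M :=
    (PicLoc.pullbackStructureIso f).inv ≫ (TensorMod.Pullback.pb f).map s
  have hloc : CohB1.genLocus _ sC = f ⁻¹ᵁ CohB1.genLocus M s :=
    Ample.GenLocus.genLocus_pullback f hM s (PicLoc.pullbackStructureIso f).symm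
  have hzm : z ∈ CohB1.genLocus _ sC := by rw [hloc]; exact hz
  have hdeg : Curv2.deg k C (Coh.structureModule C) 1 = Curv2.deg k C ((TensorMod.Pullback.pb f).obj M) 1 := by
    rw [show Curv2.deg k C ((TensorMod.Pullback.pb f).obj M) 1 = 0 from hd, Curv2.deg]
    simp
  haveI := Curves.Positivity.isIso_of_deg_eq (k := k) hdim.le
    (PicLoc.isInvertible_structureModule C) hLC (Curves.Degree.isGood_structureModule (k := k) hdim.le)
    (Curves.Degree.isGood (k := k) hdim.le hLC)
    (SurfInt.Pencil.ne_zero_of_mem_genLocus hLC hzm) hdeg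
  show w ∈ f ⁻¹ᵁ CohB1.genLocus M s
  rw [← hloc, show sC = 𝟙 _ ≫ (asIso sC).hom by simp, Ample.GenLocus.genLocus_comp_iso,
    Ample.GenLocus.genLocus_id]
  trivial

/-- Invertible with a section, of degree zero on the vertical curves and the diagonal: trivial. -/
theorem nonempty_iso_of_section [IsIntegral (SS)] {M : (SS).Modules} (hM : PicF.IsInvertible M)
    (s : Coh.structureModule SS ⟶ M) (hs : s ≠ 0)
    (hv : ∀ (x : Spec (CommRingCat.of k) ⟶ C) (hx : x ≫ pC = 𝟙 _),
      Curv2.deg k C ((Scheme.Modules.pullback (pullback.lift (pC ≫ x) (𝟙 C)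
        (by rw [Category.assoc, hx, Category.comp_id, Category.id_comp]))).obj M) 1 = 0)
    (hΔ : Curv2.deg k C ((Scheme.Modules.pullback (pullback.diagonal pC)).obj M) 1 = 0) :
    Nonempty (M ≅ Coh.structureModule SS) := by
  classical
  letI := sqOver (k := k) (C := C)
  haveI := isProper_sq (k := k) (C := C)
  haveI := Curves.GlobalSections.isNoetherian_of_proper k SS
  have hO : PicF.IsInvertible (Coh.structureModule SS) := PicLoc.isInvertible_structureModule SS
  haveI hmono : Mono s := Curves.Positivity.mono_of_ne_zero hO hM hs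
  set G := CohB1.genLocus M s with hG
  have hgen : genericPoint ↥(SS) ∈ G := by
    obtain ⟨U, e, hU, he⟩ := TensorMod.Gen.isInvertible_iff.1 hM (genericPoint ↥(SS))
    obtain ⟨a, ha⟩ := Submodule.mem_span_singleton.mp ((SurfInt.Div.span_germ_eq_top he hU).1.ge
      (Submodule.mem_top : SurfInt.Div.germOne M s (genericPoint ↥(SS)) ∈ ⊤))
    rw [hG, SurfInt.Pencil.mem_genLocus_iff_isUnit s he hU ha.symm]
    refine (Ne.isUnit (G₀ := (SS).functionField) fun h0 => ?_)
    have hinj := (Modules.StalkModule.mono_iff_stalkMapₗ_injective s).mp hmono (genericPoint ↥(SS))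
    have h1 : SurfInt.Div.germOne M s (genericPoint ↥(SS)) = 0 := by
      rw [← ha, show a = 0 from h0, zero_smul]
    have h2 := congrArg (SurfInt.Stalk.oStalk (X := SS) (genericPoint ↥(SS))) (hinj (h1.trans (map_zero _).symm))
    rw [map_zero] at h2
    rw [LinearEquiv.apply_symm_apply] at h2
    exact one_ne_zero h2
  by_cases htop : G = ⊤
  · rcases SurfInt.CokerCodim.isIso_or_exists
      (TensorMod.LocFree.of_rank (TensorMod.LocFree.of_isInvertible hO))
      (TensorMod.LocFree.of_rank (TensorMod.LocFree.of_isInvertible hM)) s with hiso | ⟨z, hz, -⟩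
    · exact ⟨(asIso s).symm⟩
    · exfalso
      obtain ⟨U, hU, hzU⟩ : ∃ U : (SS).Opens, IsIso ((Scheme.Modules.restrictFunctor U.ι).map s) ∧ z ∈ U :=
        TopologicalSpace.Opens.mem_sSup.1 (show z ∈ CohB1.genLocus M s by rw [← hG, htop]; trivial)
      have hU' : IsIso ((Scheme.Modules.restrictFunctor U.ι).map s) := hU
      have hz0 : IsZero ((Scheme.Modules.restrictFunctor U.ι).obj (cokernel s)) := by
        refine IsZero.of_iso ?_ (PreservesCokernel.iso (Scheme.Modules.restrictFunctor U.ι) s)
        exact isZero_cokernel_of_epi _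
      have he := Modules.Support.support_eq_empty_iff.2 hz0
      rw [show (Scheme.Modules.restrictFunctor U.ι).obj (cokernel s) = (cokernel s).restrict U.ι from rfl,
        Modules.Support.support_restrict] at he
      exact Set.eq_empty_iff_forall_notMem.1 he ⟨z, hzU⟩ hz
  · exfalso
    let str := pullback.fst pC pC ≫ pC
    haveI : JacobsonSpace ↥(SS) := LocallyOfFiniteType.jacobsonSpace str
    have move : ∀ q : ↥(SS), IsClosed ({q} : Set ↥(SS)) → ∃ w : C,
        (q ∈ G ↔ pullback.diagonal pC w ∈ G) := by
      intro q hq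
      let p := pointOfClosedPoint str q hq
      have hp : p ≫ pullback.fst pC pC ≫ pC = 𝟙 _ := pointOfClosedPoint_comp str q hq
      have hx : (p ≫ pullback.fst pC pC) ≫ pC = 𝟙 _ := by rw [Category.assoc]; exact hp
      set x := p ≫ pullback.fst pC pC
      let f : C ⟶ SS := pullback.lift (pC ≫ x) (𝟙 C)
        (by rw [Category.assoc, hx, Category.comp_id, Category.id_comp])
      have h1 : x ≫ f = x ≫ pullback.diagonal pC := pullback.hom_ext
        (by simp only [f, Category.assoc, pullback.lift_fst, pullback.diagonal_fst, Category.comp_id,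
          reassoc_of% hx])
        (by simp only [f, Category.assoc, pullback.lift_snd, pullback.diagonal_snd])
      have hy : (p ≫ pullback.snd pC pC) ≫ pC = 𝟙 _ := by
        rw [Category.assoc, ← pullback.condition]; exact hp
      have h2 : (p ≫ pullback.snd pC pC) ≫ f = p := pullback.hom_ext
        (by simp only [f, Category.assoc, pullback.lift_fst]
            rw [← Category.assoc, ← Category.assoc, hy, Category.id_comp])
        (by simp only [f, Category.assoc, pullback.lift_snd, Category.comp_id])
      let o := IsLocalRing.closedPoint k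
      refine ⟨x o, ?_⟩
      have e1 : f (x o) = pullback.diagonal pC (x o) := by
        simpa only [Scheme.Hom.comp_apply] using congrArg (fun g : Spec (CommRingCat.of k) ⟶ SS => g o) h1
      have e2 : f ((p ≫ pullback.snd pC pC) o) = q := by
        have := congrArg (fun g : Spec (CommRingCat.of k) ⟶ SS => g o) h2
        simpa only [Scheme.Hom.comp_apply, p, pointOfClosedPoint_apply] using this
      rw [← e1, ← e2]
      exact ⟨fun h => genLocus_line hdim f hM s (hv x hx) h _,
        fun h => genLocus_line hdim f hM s (hv x hx) h _⟩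
    obtain ⟨q, hq, hqG⟩ : ∃ q : ↥(SS), IsClosed ({q} : Set ↥(SS)) ∧ q ∉ G := by
      have hne : ((G : Set ↥(SS))ᶜ).Nonempty :=
        Set.nonempty_compl.2 fun h => htop (Opens.ext h)
      obtain ⟨q, hq1, hq2⟩ := nonempty_inter_closedPoints hne G.2.isClosed_compl.isLocallyClosed
      exact ⟨q, hq2, hq1⟩
    obtain ⟨q', hq', hqG'⟩ : ∃ q : ↥(SS), IsClosed ({q} : Set ↥(SS)) ∧ q ∈ G := by
      obtain ⟨q, hq1, hq2⟩ := nonempty_inter_closedPoints (Z := (G : Set ↥(SS))) ⟨_, hgen⟩
        G.2.isLocallyClosed
      exact ⟨q, hq2, hq1⟩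
    obtain ⟨w, hw⟩ := move q hq
    obtain ⟨w', hw'⟩ := move q' hq'
    exact hqG (hw.2 (genLocus_line hdim (pullback.diagonal pC) hM s hΔ (hw'.1 hqG') w))

end Groth.Agent.H40.HypBox
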